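import Mathlib

/-! Fixed vectors of `p`-linear maps over algebraically closed fields. -/

set_option autoImplicit false

universe u v

open Polynomial

namespace Groth.Agent.PLinLib

variable {p : ℕ} [Fact p.Prime] {K : Type u} [Field K] {M : Type v} [AddCommGroup M] [Module K M]
  (φ : M →+ M) (hφ : ∀ (c : K) (x : M), φ (c • x) = c ^ p • φ x)

include hφ

theorem iterate_smul (n : ℕ) (c : K) (x : M) : (⇑φ)^[n] (c • x) = c ^ (p ^ n) • (⇑φ)^[n] x := by
  induction n generalizing x c with
  | zero => simp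
  | succ n ih =>
    rw [Function.iterate_succ_apply', Function.iterate_succ_apply', ih, hφ, ← pow_mul, pow_succ]

theorem linearIndependent_fixed {F : Subfield K} (hF : ∀ c : K, c ^ p = c → c ∈ F) {ι : Type*}
    (v : ι → M) (hv : ∀ i, φ (v i) = v i)
    (hli : ∀ (s : Finset ι) (g : ι → K), (∀ i, g i ∈ F) → ∑ i ∈ s, g i • v i = 0 → ∀ i ∈ s, g i = 0) :
    LinearIndependent K v := by
  classical
  rw [linearIndependent_iff']
  intro s
  induction s using Finset.induction with
  | empty => simp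
  | insert a s ha ih =>
    intro c hc
    by_cases h0 : c a = 0
    · intro i hi
      rcases Finset.mem_insert.1 hi with rfl | hi
      · exact h0
      · exact ih c (by simpa [Finset.sum_insert ha, h0] using hc) i hi
    · exfalso
      let d : ι → K := fun i => c i / c a
      have hd : ∑ i ∈ insert a s, d i • v i = 0 := by
        have := congrArg ((c a)⁻¹ • ·) hc
        simpa [d, Finset.smul_sum, smul_smul, div_eq_inv_mul] using this
      have hd' := congrArg φ hd
      simp only [map_sum, hφ, hv, map_zero] at hd'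
      have hz : ∑ i ∈ s, (d i ^ p - d i) • v i = 0 := by
        have hda : d a = 1 := div_self h0
        rw [Finset.sum_insert ha, hda] at hd hd'
        rw [one_pow] at hd'
        simp only [sub_smul, Finset.sum_sub_distrib]
        rw [← add_right_inj ((1 : K) • v a)]
        rw [← add_sub_assoc, hd', zero_sub, add_zero]
        exact (eq_neg_of_add_eq_zero_left hd).symm
      have hm : ∀ i ∈ insert a s, d i ∈ F := by
        intro i hi
        rcases Finset.mem_insert.1 hi with rfl | hi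
        · exact (show d i = 1 from div_self h0).symm ▸ F.one_mem
        · exact hF _ (sub_eq_zero.1 (ih _ hz i hi))
      have := hli (insert a s) (fun i => if d i ∈ F then d i else 0)
        (fun i => by split_ifs with h; exacts [h, F.zero_mem])
        (by
          refine Eq.trans (Finset.sum_congr rfl fun i hi => ?_) hd
          simp [hm i hi]) a (Finset.mem_insert_self _ _)
      simp [hm a (Finset.mem_insert_self _ _), d, h0] at this

theorem exists_fixed_solution_aux [IsAlgClosed K] {r : ℕ} (a : ℕ → K) (ha : a 0 ≠ 0) :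
    ∃ c : ℕ → K, c r ≠ 0 ∧ c 0 = a 0 * c r ^ p ∧ ∀ i, c (i + 1) = c i ^ p + a (i + 1) * c r ^ p := by
  have hp := (Fact.out : p.Prime)
  let A : ℕ → K[X] := fun i => Nat.rec (C (a 0) * X ^ (p - 1))
    (fun i A => A ^ p * X ^ (p - 1) + C (a (i + 1)) * X ^ (p - 1)) i
  have hA0 : A 0 = C (a 0) * X ^ (p - 1) := rfl
  have hAs : ∀ i, A (i + 1) = A i ^ p * X ^ (p - 1) + C (a (i + 1)) * X ^ (p - 1) := fun _ => rfl
  clear_value A
  have hA : ∀ i, p - 1 ≤ (A i).natDegree ∧ (A i).eval 0 = 0 := by
    intro i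
    induction i with
    | zero =>
      rw [hA0]
      refine ⟨le_of_eq (natDegree_C_mul_X_pow _ _ ha).symm, ?_⟩
      simp [zero_pow (Nat.sub_ne_zero_of_lt hp.one_lt)]
    | succ i ih =>
      have hne : A i ≠ 0 := fun h => by
        have := ih.1
        rw [h, natDegree_zero] at this
        have := hp.two_le
        omega
      have h1 : (A i ^ p * X ^ (p - 1)).natDegree = p * (A i).natDegree + (p - 1) := by
        rw [natDegree_mul (pow_ne_zero _ hne) (pow_ne_zero _ X_ne_zero), natDegree_pow, natDegree_X_pow]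
      have h2 : (C (a (i + 1)) * X ^ (p - 1)).natDegree < (A i ^ p * X ^ (p - 1)).natDegree := by
        refine (natDegree_C_mul_X_pow_le _ _).trans_lt ?_
        rw [h1]
        have := hp.two_le
        have : 0 < p * (A i).natDegree := Nat.mul_pos (by omega) (by omega)
        omega
      refine ⟨?_, ?_⟩
      · rw [hAs, natDegree_add_eq_left_of_natDegree_lt h2, h1]
        omega
      · simp [hAs, zero_pow (Nat.sub_ne_zero_of_lt hp.one_lt)]
  have hdeg : (A r - C 1).degree ≠ 0 := by
    intro h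
    have := natDegree_eq_zero_iff_degree_le_zero.2 h.le
    rw [natDegree_sub_C] at this
    have := (hA r).1
    have := hp.two_le
    omega
  obtain ⟨t, ht⟩ := IsAlgClosed.exists_root (A r - C 1) hdeg
  simp only [IsRoot, eval_sub, eval_C, sub_eq_zero] at ht
  have ht0 : t ≠ 0 := fun h => by
    rw [h, (hA r).2] at ht
    exact zero_ne_one ht
  have htp : t * t ^ (p - 1) = t ^ p := by rw [← pow_succ', Nat.sub_add_cancel hp.one_le]
  refine ⟨fun i => t * (A i).eval t, ?_, ?_, fun i => ?_⟩
  · simpa [ht] using ht0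
  · simp only [ht, mul_one, hA0, eval_mul, eval_C, eval_pow, eval_X]
    rw [mul_left_comm, htp]
  · simp only [ht, mul_one, hAs, eval_add, eval_mul, eval_C, eval_pow, eval_X, mul_pow]
    rw [← htp]
    ring

/-- An injective `p`-linear map over an algebraically closed field is spanned by its fixed vectors. -/
theorem span_fixed [IsAlgClosed K] [FiniteDimensional K M] (hinj : Function.Injective φ) :
    Submodule.span K {x : M | φ x = x} = ⊤ := by
  classical
  have hp := (Fact.out : p.Prime)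
  set U := Submodule.span K {x : M | φ x = x} with hU
  have hUfix : ∀ u ∈ U, (∃ u' ∈ U, φ u' = u) ∧ ∃ s ∈ U, φ s = s + u := by
    intro u hu
    refine Submodule.span_induction (p := fun u _ => ∀ a : K, (∃ u' ∈ U, φ u' = a • u) ∧
      ∃ s ∈ U, φ s = s + a • u) ?_ ?_ ?_ ?_ hu 1 |> fun h => by simpa using h
    · intro w hw a
      have hwU : w ∈ U := Submodule.subset_span hw
      obtain ⟨b, hb⟩ := IsAlgClosed.exists_pow_nat_eq a hp.pos
      obtain ⟨t, ht⟩ := IsAlgClosed.exists_root (X ^ p - (X + C a) : K[X]) (by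
        rw [degree_sub_eq_left_of_degree_lt]
        · rw [degree_X_pow]; exact_mod_cast hp.ne_zero
        · rw [degree_X_pow]
          exact (degree_X_add_C a).trans_lt (by exact_mod_cast hp.one_lt))
      simp only [IsRoot, eval_sub, eval_pow, eval_X, eval_add, eval_C, sub_eq_zero] at ht
      exact ⟨⟨b • w, U.smul_mem _ hwU, by rw [hφ, hw, hb]⟩,
        ⟨t • w, U.smul_mem _ hwU, by rw [hφ, hw, ht, add_smul]⟩⟩
    · exact fun a => ⟨⟨0, U.zero_mem, by simp⟩, ⟨0, U.zero_mem, by simp⟩⟩
    · intro x y _ _ hx hy a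
      obtain ⟨⟨x', hx', ex⟩, sx, hsx, esx⟩ := hx a
      obtain ⟨⟨y', hy', ey⟩, sy, hsy, esy⟩ := hy a
      exact ⟨⟨x' + y', U.add_mem hx' hy', by rw [map_add, ex, ey, smul_add]⟩,
        ⟨sx + sy, U.add_mem hsx hsy, by rw [map_add, esx, esy, smul_add]; abel⟩⟩
    · intro b x _ hx a
      simpa [smul_smul] using hx (a * b)
  by_contra hne
  obtain ⟨v, hv⟩ : ∃ v, v ∉ U := by
    by_contra h
    push Not at h
    exact hne (eq_top_iff.2 fun x _ => h x)
  let S : ℕ → Submodule K M := fun r => U ⊔ Submodule.span K (Set.range fun i : Fin r => (⇑φ)^[(i : ℕ)] v)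
  have hSU : ∀ r, U ≤ S r := fun r => le_sup_left
  have hSm : ∀ r (i : ℕ), i < r → (⇑φ)^[i] v ∈ S r := fun r i hi =>
    Submodule.mem_sup_right (Submodule.subset_span ⟨⟨i, hi⟩, rfl⟩)
  have hex : ∃ r, (⇑φ)^[r] v ∈ S r := by
    by_contra h
    push Not at h
    have hlt : ∀ r, S r < S (r + 1) := fun r => by
      refine lt_of_le_of_ne (sup_le (hSU _) (Submodule.span_le.2 ?_)) fun e => h r ?_
      · rintro _ ⟨i, rfl⟩
        exact hSm _ _ (i.2.trans (Nat.lt_succ_self r))
      · rw [e]; exact hSm _ _ (Nat.lt_succ_self r)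
    have hge : ∀ r, r ≤ Module.finrank K (S r) := fun r => by
      induction r with
      | zero => exact Nat.zero_le _
      | succ r ih => exact Nat.succ_le_of_lt (ih.trans_lt (Submodule.finrank_lt_finrank_of_lt (hlt r)))
    have := (hge (Module.finrank K M + 1)).trans (Submodule.finrank_le _)
    omega
  have hr : (⇑φ)^[Nat.find hex] v ∈ S (Nat.find hex) := Nat.find_spec hex
  obtain ⟨r, hr'⟩ : ∃ r, Nat.find hex = r + 1 := by
    refine Nat.exists_eq_succ_of_ne_zero fun h => hv ?_
    rw [h] at hr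
    simpa [S] using hr
  have hmin : (⇑φ)^[r] v ∉ S r := Nat.find_min hex (by omega)
  rw [hr'] at hr
  obtain ⟨u, hu, w, hw, huw⟩ := Submodule.mem_sup.1 hr
  obtain ⟨a, rfl⟩ := (Submodule.mem_span_range_iff_exists_fun K).1 hw
  let a' : ℕ → K := fun i => if h : i < r + 1 then a ⟨i, h⟩ else 0
  have ha' : ∀ i : Fin (r + 1), a i = a' i := fun i => by
    simp only [a']; rw [dif_pos i.2]
  simp only [ha'] at huw
  rw [Fin.sum_univ_succ] at huw
  by_cases ha0 : a' 0 = 0
  · choose b hb using fun i => IsAlgClosed.exists_pow_nat_eq (a' (i + 1)) hp.pos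
    obtain ⟨u', hu', eu⟩ := (hUfix u hu).1
    refine hmin ?_
    have e : φ (u' + ∑ i : Fin r, b i • (⇑φ)^[(i : ℕ)] v) = φ ((⇑φ)^[r] v) := by
      rw [← Function.iterate_succ_apply' (⇑φ) r v, ← huw, map_add, map_sum, eu]
      rw [Fin.val_zero, ha0, zero_smul, zero_add]
      refine congrArg (u + ·) (Finset.sum_congr rfl fun i _ => ?_)
      rw [hφ, hb, Fin.val_succ, Function.iterate_succ_apply']
    rw [← hinj e]
    exact (S r).add_mem (hSU r hu')
      (Submodule.sum_mem _ fun i _ => (S r).smul_mem _ (hSm r _ i.2))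
  · obtain ⟨c, hc, hc0, hcs⟩ := exists_fixed_solution_aux φ hφ (r := r) a' ha0
    let x := ∑ i : Fin (r + 1), c i • (⇑φ)^[(i : ℕ)] v
    have hx : φ x = x + c r ^ p • u := by
      have e1 : φ x = (∑ i : Fin r, c i ^ p • (⇑φ)^[(i : ℕ) + 1] v) +
          c r ^ p • (⇑φ)^[r + 1] v := by
        simp only [x]
        rw [map_sum, Fin.sum_univ_castSucc]
        simp only [hφ, Fin.val_castSucc, Fin.val_last, ← Function.iterate_succ_apply' (⇑φ)]
      rw [e1, ← huw]
      simp only [x]
      rw [Fin.sum_univ_succ (fun i : Fin (r + 1) => c i • (⇑φ)^[(i : ℕ)] v)]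
      simp only [Fin.val_zero, Fin.val_succ, hc0, hcs, add_smul,
        Finset.sum_add_distrib, smul_add, Finset.smul_sum, smul_smul, mul_comm (c r ^ p)]
      abel
    obtain ⟨s, hs, es⟩ := (hUfix _ (U.smul_mem (c r ^ p) hu)).2
    have hy : x - s ∈ U := Submodule.subset_span
      (show φ (x - s) = x - s by rw [map_sub, hx, es]; abel)
    have hxU : x ∈ U := by simpa using U.add_mem hy hs
    refine hmin ?_
    have e2 : x = (∑ i : Fin r, c i • (⇑φ)^[(i : ℕ)] v) + c r • (⇑φ)^[r] v := by
      simp [x, Fin.sum_univ_castSucc]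
    have h2 : c r • (⇑φ)^[r] v ∈ S r := by
      rw [← sub_eq_iff_eq_add'.2 e2]
      exact (S r).sub_mem (hSU r hxU)
        (Submodule.sum_mem _ fun i _ => (S r).smul_mem _ (hSm r _ i.2))
    exact ((S r).smul_mem_iff hc).1 h2

/-- Fitting decomposition for a `p`-linear map. -/
theorem exists_fitting [IsAlgClosed K] [FiniteDimensional K M] :
    ∃ (N : ℕ) (R Z : Submodule K M), (∀ x, x ∈ R ↔ ∃ y, (⇑φ)^[N] y = x) ∧
      (∀ x, x ∈ Z ↔ (⇑φ)^[N] x = 0) ∧ IsCompl R Z ∧ (∀ x ∈ R, φ x ∈ R) ∧
      ∀ x ∈ R, φ x = 0 → x = 0 := by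
  have hp := (Fact.out : p.Prime)
  let ψ : ℕ → M →+ M := fun n => AddMonoidHom.mk' (⇑φ)^[n] (iterate_map_add φ n)
  have hψ : ∀ n x, ψ n x = (⇑φ)^[n] x := fun n x => rfl
  let ker : ℕ →o Submodule K M :=
    ⟨fun n =>
      { carrier := {x | ψ n x = 0}
        add_mem' := fun {a b} ha hb => by simp_all
        zero_mem' := map_zero _
        smul_mem' := fun c x hx => by
          change ψ n (c • x) = 0
          rw [hψ, iterate_smul φ hφ, ← hψ, hx, smul_zero] },
      monotone_nat_of_le_succ fun n x (hx : ψ n x = 0) => by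
        change ψ (n + 1) x = 0
        rw [hψ, Function.iterate_succ_apply', ← hψ, hx, map_zero]⟩
  let rng : ℕ →o (Submodule K M)ᵒᵈ :=
    ⟨fun n => OrderDual.toDual
      { carrier := {x | ∃ y, ψ n y = x}
        add_mem' := by rintro _ _ ⟨a, rfl⟩ ⟨b, rfl⟩; exact ⟨a + b, map_add _ _ _⟩
        zero_mem' := ⟨0, map_zero _⟩
        smul_mem' := by
          rintro c _ ⟨a, rfl⟩
          obtain ⟨b, hb⟩ := IsAlgClosed.exists_pow_nat_eq c (pow_pos hp.pos n)
          exact ⟨b • a, by rw [hψ, hψ, iterate_smul φ hφ, hb]⟩ },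
      monotone_nat_of_le_succ fun n => by
        rintro x ⟨y, rfl⟩
        exact ⟨φ y, by rw [hψ, hψ, Function.iterate_succ_apply]⟩⟩
  obtain ⟨N₁, h₁⟩ := monotone_stabilizes_iff_noetherian.2 (inferInstance : IsNoetherian K M) ker
  obtain ⟨N₂, h₂⟩ := IsArtinian.monotone_stabilizes (R := K) (M := M) rng
  set N := max N₁ N₂
  have hk : ∀ m, N ≤ m → ker N = ker m := fun m hm =>
    (h₁ N (le_max_left _ _)).symm.trans (h₁ m ((le_max_left _ _).trans hm))
  have hr : ∀ m, N ≤ m → rng N = rng m := fun m hm =>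
    (h₂ N (le_max_right _ _)).symm.trans (h₂ m ((le_max_right _ _).trans hm))
  refine ⟨N, OrderDual.ofDual (rng N), ker N, fun x => ?_, fun x => ?_, ⟨?_, ?_⟩, ?_, ?_⟩
  · exact exists_congr fun y => by rw [hψ]
  · exact iff_of_eq (congrArg (· = 0) (hψ N x))
  · rw [Submodule.disjoint_def]
    rintro _ ⟨y, rfl⟩ (hx : ψ N (ψ N y) = 0)
    have : y ∈ ker (N + N) := by
      change ψ (N + N) y = 0
      rwa [hψ, Function.iterate_add_apply, ← hψ, ← hψ]
    rwa [← hk _ (Nat.le_add_right _ _)] at this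
  · rw [codisjoint_iff, eq_top_iff]
    intro x _
    have : ψ N x ∈ OrderDual.ofDual (rng (N + N)) := by
      rw [← hr _ (Nat.le_add_right _ _)]
      exact ⟨x, rfl⟩
    obtain ⟨y, hy⟩ := this
    refine Submodule.mem_sup.2 ⟨ψ N y, ⟨y, rfl⟩, x - ψ N y, ?_, by abel⟩
    change ψ N (x - ψ N y) = 0
    rw [map_sub, ← hy, hψ (N + N), Function.iterate_add_apply, ← hψ, ← hψ, sub_self]
  · rintro _ ⟨y, rfl⟩
    exact ⟨φ y, by rw [hψ, hψ, ← Function.iterate_succ_apply, Function.iterate_succ_apply']⟩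
  · rintro _ ⟨y, rfl⟩ hy
    have : y ∈ ker (N + 1) := by
      change ψ (N + 1) y = 0
      rw [hψ, Function.iterate_succ_apply', ← hψ, hy]
    rwa [← hk _ (Nat.le_succ _)] at this

end Groth.Agent.PLinLib
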